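import Cfsg.Agent.H240.TW.KickA
import Cfsg.Agent.H122.SX.EFrame
import Cfsg.Agent.H376.TW.Tri

/-!
# The kick by `x_{α₂}(s)` in `E₈(q)`, `q ≥ 3` (helper240, S2452)

* `kick` : every `g ≠ 1` of `E₈(q)`, `q ≥ 3`, is conjugate to `v (φ₈(A) h_{α₂}(z)) u` with `v`, `u` in the unipotent
  radicals of the opposite parabolic subgroups of type `A₇` and `A diag(1, 1, 1, z, …, z) - μ` of rank at least two for
  every `μ`.
-/

set_option autoImplicit false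
set_option linter.unusedSectionVars false

namespace Cfsg.Agent.H240.TW

open CoxeterSystem Cfsg.Agent.ChevalleyStructure.CoxeterGeom Cfsg.Agent.Tits.Roots Cfsg.Agent.Tits.Core
  Cfsg.Agent.Nodes.Reps Cfsg.Agent.Nodes.BNOf Cfsg.Agent.Nodes.RGDLib Cfsg.Agent.Nodes.Bruhat
  Cfsg.Agent.Nodes.OppDec Cfsg.Agent.Nodes.LeviDec Cfsg.Agent.Nodes.KindChev Cfsg.Agent.Nodes.ChevCls
  Cfsg.Agent.OddHalf.NI.ModelChev Cfsg.Agent.Nodes.StabComb
  Cfsg.Agent.H162.GaussDec Cfsg.Agent.H162.GaussLevi Cfsg.Agent.H162.GaussSL Cfsg.Agent.H162.GaussReg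
  Cfsg.Agent.H162.GaussPQ
  Cfsg.Agent.H928.Ore.Frame
open Cfsg.Lie Cfsg.Agent.ChevalleyStructure Cfsg.Agent.ChevalleyStructure.Elts
  Cfsg.Agent.ChevalleyStructure.RootVec Cfsg.Agent.ChevalleyStructure.NPerm
  Cfsg.Agent.ChevalleyStructure.CoxeterGeomTypes Cfsg.Agent.Nodes.RGDChev Cfsg.Agent.KFacts.RgdChevCoord
open Cfsg.Agent.FixBN.FieldRGD (uu vv dd ww)
open Cfsg.Agent.TitsThree.KExcRT Cfsg.Agent.AGraded
open Cfsg.Agent.H78.Pw Cfsg.Agent.H85.Pw Cfsg.Agent.H194.Pw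
open Cfsg.Agent.H150.E6T (le_of_gen)
open Cfsg.Agent.H162.GaussExc (coord act_sg sg_mem)
open Cfsg.Agent.H122.Pw Cfsg.Agent.H122.SX Cfsg.Agent.H122.SX.E127
open scoped MatrixGroups

universe u

theorem r23 : r8 2 3 = chevE8.simple 3 ∧ r8 3 2 = chevE8.neg (chevE8.simple 3) := by decide +kernel

theorem c31 : chevE8.cartan 3 (chevE8.simple 1) = -1 := by decide +kernel

theorem not1 : (1 : Fin 8) ∉ ({k | k ∈ J7} : Set (Fin 8)) := by
  intro h
  exact absurd (show (1 : Fin 8) ∈ J7 from h) (by decide)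

variable {K : Type u} [Field K]

theorem sg_eq (i : Fin 8) (z : Kˣ) : Cfsg.Agent.H162.GaussExc.sg hp8 (Pi.single i 1) z = sl hp8 i (dd (z : K) z.ne_zero) := by
  have h3 : (fun k : Fin 8 => z ^ ((Pi.single i 1 : Fin 8 → ℤ) k)) = Pi.mulSingle i z := by
    funext k
    by_cases hk : k = i
    · subst hk
      rw [Pi.single_eq_same, Pi.mulSingle_eq_same, zpow_one]
    · rw [Pi.single_eq_of_ne hk, Pi.mulSingle_eq_of_ne hk, zpow_zero]
  rw [Cfsg.Agent.H162.GaussExc.sg, h3, th_mulSingle]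

theorem hz_eq (z : Kˣ) : hz z = sl hp8 1 (dd (z : K) z.ne_zero) := sg_eq 1 z

theorem hz_one : hz (1 : Kˣ) = 1 := by
  rw [hz, Cfsg.Agent.H162.GaussExc.sg]
  have h : (fun k : Fin 8 => (1 : Kˣ) ^ ((Pi.single 1 1 : Fin 8 → ℤ) k)) = 1 := by
    funext k
    rw [one_zpow]
    rfl
  rw [h, map_one]

theorem dz_one : dz (1 : Kˣ) = 1 := by
  funext i
  fin_cases i <;> simp [dz]

/-- the torus element of the fourth node lies in the block -/
theorem exists_kappa (z : Kˣ) : ∃ A : Matrix.SpecialLinearGroup (Fin 8) K,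
    p8 K A = Cfsg.Agent.H162.GaussExc.sg hp8 (Pi.single 3 1) z := by
  have h1 : (sl hp8 (K := K) 3).range ≤ (p8 K).range := by
    rw [range_sl]
    refine sup_le ?_ ?_
    · intro y hy
      rw [← vec_simple hp8 3] at hy
      have hy' : y ∈ XX chevE8 8 K (vec chevE8 8 (r8 2 3)) := by rw [r23.1]; exact hy
      obtain ⟨c, rfl⟩ := (mem_XX hp8 (rt8.1 2 3 (by decide)) y).1 hy'
      refine ⟨Matrix.SpecialLinearGroup.transvection (by decide : (2 : Fin 8) ≠ 3) ((s8 2 3 : K) * c), ?_⟩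
      rw [p8_tv, ← mul_assoc, ← Int.cast_mul, rt8.2.2.2.1, Int.cast_one, one_mul]
    · intro y hy
      have h0 := simple_lt hp8.inList (lt_rank hp8 3)
      rw [← vec_simple hp8 3, ← vec_neg hp8 h0] at hy
      have hy' : y ∈ XX chevE8 8 K (vec chevE8 8 (r8 3 2)) := by rw [r23.2]; exact hy
      obtain ⟨c, rfl⟩ := (mem_XX hp8 (rt8.1 3 2 (by decide)) y).1 hy'
      refine ⟨Matrix.SpecialLinearGroup.transvection (by decide : (3 : Fin 8) ≠ 2) ((s8 3 2 : K) * c), ?_⟩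
      rw [p8_tv, ← mul_assoc, ← Int.cast_mul, rt8.2.2.2.1, Int.cast_one, one_mul]
  rw [sg_eq]
  exact h1 ⟨_, rfl⟩

theorem kappa_ne {z : Kˣ} (hz : z ≠ 1) :
    (Cfsg.Agent.H162.GaussExc.sg hp8 (Pi.single 3 1) z)⁻¹ * xc hp8 (sr 1) (1 : K) *
      Cfsg.Agent.H162.GaussExc.sg hp8 (Pi.single 3 1) z ≠ xc hp8 (sr 1) 1 := by
  obtain ⟨κ, hκ⟩ : ∃ κ, κ = Cfsg.Agent.H162.GaussExc.sg hp8 (Pi.single 3 1) z := ⟨_, rfl⟩
  have h0 := simple_lt hp8.inList (lt_rank hp8 1)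
  have h1 := act_sg hp8 (Pi.single 3 1) z h0 (1 : K)
  rw [← hκ, vec_simple hp8 1] at h1
  rw [← hκ]
  intro h2
  have h3 : κ * xc hp8 (sr 1) (1 : K) * κ⁻¹ = xc hp8 (sr 1) 1 := by
    calc κ * xc hp8 (sr 1) (1 : K) * κ⁻¹ = κ * (κ⁻¹ * xc hp8 (sr 1) (1 : K) * κ) * κ⁻¹ := by rw [h2]
      _ = _ := by group
  rw [h1, ← vec_simple hp8 1] at h3
  have h4 := xc_inj hp8 h0 h3
  have h5 : ∑ i : Fin 8, (Pi.single 3 1 : Fin 8 → ℤ) i * chevE8.cartan (i : ℕ) (chevE8.simple ((1 : Fin 8) : ℕ)) = -1 := by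
    rw [Finset.sum_eq_single 3]
    · rw [Pi.single_eq_same, one_mul]
      exact c31
    · intro i _ hi
      rw [Pi.single_eq_of_ne hi, zero_mul]
    · intro h
      exact absurd (Finset.mem_univ _) h
  rw [h5, mul_one, zpow_neg_one] at h4
  apply hz
  have h6 : z⁻¹ = 1 := Units.ext h4
  exact inv_eq_one.1 h6

/-- **The kick.** -/
theorem kick [Finite K] (h3 : 3 ≤ Nat.card K) {g : ↥(chevE8.group K)} (hg : g ≠ 1) :
    ∃ (x : ↥(chevE8.group K)) (z : Kˣ) (A : Matrix.SpecialLinearGroup (Fin 8) K),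
      ∃ v ∈ VNJ cs8 hp8.isCartan (XX chevE8 8 K) {k | k ∈ J7}, ∃ u ∈ VJ cs8 hp8.isCartan (XX chevE8 8 K) {k | k ∈ J7},
        x * g * x⁻¹ = v * (p8 K A * hz z) * u ∧
        ∀ μ : K, 2 ≤ (A.1 * Matrix.diagonal (dz z) - Matrix.scalar (Fin 8) μ).rank := by
  have hS := Cfsg.Agent.S1054.result (F := K) chevE8 (by simp)
  obtain ⟨p, hpc⟩ := CharP.exists K
  have : Fact p.Prime := ⟨(CharP.char_is_prime_or_zero K p).resolve_right (CharP.char_ne_zero_of_finite K p)⟩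
  have := finite_W hp8 cs8
  have : Nonempty (Fin 8) := ⟨0⟩
  have R := rgd (K := K) hp8 cs8 p
  obtain ⟨ζ, hζ⟩ : ∃ ζ : Kˣ, ζ ≠ 1 := by
    have h4 : 1 < Nat.card Kˣ := by rw [Nat.card_units]; omega
    have : Nontrivial Kˣ := (Finite.one_lt_card_iff_nontrivial).1 h4
    exact exists_ne 1
  obtain ⟨A0, hA0⟩ := exists_kappa (K := K) ζ
  have hκ : p8 K A0 ∈ TT chevE8 K := by rw [hA0]; exact sg_mem hp8 _ _
  have ha : xc hp8 (sr 1) (1 : K) ∈ XX chevE8 8 K (sr 1) := by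
    have h0 := simple_lt hp8.inList (lt_rank hp8 1)
    rw [← vec_simple hp8 1]
    exact (mem_XX hp8 h0 _).2 ⟨1, rfl⟩
  obtain ⟨_, hL, _, hU, ⟨x, v, hv, u, hu, e⟩, hor⟩ := gauss_kick R (G1_eq_top hp8 _) (coord hp8)
    (Cfsg.Agent.Nodes.ChevChart.irr_of Cfsg.Agent.Nodes.ChevChart.irr8)
    (Cfsg.Agent.H224.Ore.Row.not_mem_core (by norm_num) hS.1 p hp8 hg) hκ ha
    (by rw [hA0]; exact kappa_ne hζ) (J := {k | k ∈ J7}) not1
    (fun z hz => by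
      rw [sl_dd]
      exact hc_mem hp8 1 hz)
  obtain ⟨L, hL, rfl⟩ := (pc7 K).exists_lo sub7 hL
  obtain ⟨U, hU, rfl⟩ := (pc7 K).exists_up sub7 hU
  obtain ⟨A, hA⟩ : ∃ A, A = L * A0 * U := ⟨_, rfl⟩
  have hA' : p8 K L * p8 K A0 * p8 K U = p8 K A := by rw [hA, map_mul, map_mul]
  rw [hA'] at e
  by_cases hgood : ∀ μ : K, 2 ≤ (A.1 - Matrix.scalar (Fin 8) μ).rank
  · refine ⟨x, 1, A, v, hv, u, hu, ?_, fun μ => ?_⟩
    · rw [hz_one, mul_one]
      exact e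
    · rw [dz_one]
      have h1 : Matrix.diagonal (1 : Fin 8 → K) = 1 := Matrix.diagonal_one
      rw [h1, Matrix.mul_one]
      exact hgood μ
  push Not at hgood
  obtain ⟨μ, hμ⟩ := hgood
  have hdet : A.1.det ≠ 0 := by
    have := A.2
    rw [this]
    exact one_ne_zero
  have hζ1 : (ζ : K) ≠ 1 := fun h => hζ (Units.ext h)
  have hd1 : ∀ i : Fin 8, i.val < 3 → dz ζ i = 1 := by
    intro i hi
    fin_cases i <;> first | rfl | exact absurd hi (by decide)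
  have hd2 : ∀ i : Fin 8, 3 ≤ i.val → dz ζ i = ζ := by
    intro i hi
    fin_cases i <;> first | exact absurd hi (by decide) | rfl
  rcases hor with hor | hor
  · obtain ⟨x, v, hv, _, hk, u, hu, e⟩ := hor ζ ζ.ne_zero hζ1
    obtain ⟨N, hN, rfl⟩ := (pc7 K).exists_lo sub7 hk
    refine ⟨x, ζ, Dz ζ (N * A), v, hv, u, hu, ?_, fun μ₁ => ?_⟩
    · rw [e, hA', ← hz_eq, ← hz_p8, map_mul]
      group
    · have h1 : (Dz ζ (N * A)).1 * Matrix.diagonal (dz ζ) = Matrix.diagonal (dz ζ) * N.1 * A.1 := by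
        rw [Dz_val]
        change Matrix.diagonal (dz ζ) * (N.1 * A.1) * Matrix.diagonal (dz ζ⁻¹) * Matrix.diagonal (dz ζ) = _
        rw [Matrix.mul_assoc, dz_mul', Matrix.mul_one, Matrix.mul_assoc]
      rw [h1]
      refine Cfsg.Agent.H376.TW.tri_good hζ1 _ _ (fun i j hij => ?_) (fun i hi => ?_) (fun i hi => ?_) hdet
        (by omega : (A.1 - Matrix.scalar (Fin 8) μ).rank ≤ 1) μ₁
      · rw [Matrix.diagonal_mul, (mem_LT.1 hN).1 _ _ hij, mul_zero]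
      · rw [Matrix.diagonal_mul, (mem_LT.1 hN).2, hd1 i hi, mul_one]
      · rw [Matrix.diagonal_mul, (mem_LT.1 hN).2, hd2 i hi, mul_one]
  · obtain ⟨x, v, hv, _, hk, u, hu, e⟩ := hor ζ ζ.ne_zero hζ1
    obtain ⟨N, hN, rfl⟩ := (pc7 K).exists_up sub7 hk
    refine ⟨x, ζ, A * N, v, hv, u, hu, ?_, fun μ₁ => ?_⟩
    · rw [e, hA', ← hz_eq, map_mul]
    · have h1 : (A * N).1 * Matrix.diagonal (dz ζ) = A.1 * (N.1 * Matrix.diagonal (dz ζ)) := by
        change A.1 * N.1 * Matrix.diagonal (dz ζ) = _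
        rw [Matrix.mul_assoc]
      rw [h1]
      refine Cfsg.Agent.H376.TW.tri_good' hζ1 _ _ (fun i j hij => ?_) (fun i hi => ?_) (fun i hi => ?_) hdet
        (by omega : (A.1 - Matrix.scalar (Fin 8) μ).rank ≤ 1) μ₁
      · rw [Matrix.mul_diagonal, (mem_UT.1 hN).1 _ _ hij, zero_mul]
      · rw [Matrix.mul_diagonal, (mem_UT.1 hN).2, hd1 i hi, mul_one]
      · rw [Matrix.mul_diagonal, (mem_UT.1 hN).2, hd2 i hi, one_mul]

end Cfsg.Agent.H240.TW
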