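import Cfsg.Agent.H122.SX.GaussH

/-!
# The kick by a simple root element, abstract part (helper240, S2452, `E₈(q)`)

* `gauss_kick` : for a node `i ∉ J` and `κ ∈ T` not centralising `X_{α_i}`: every `g` outside the core is conjugate to
  `v m u`, `v ∈ V_J⁻`, `u ∈ V_J`, `m = L κ U`, and for every `z ≠ 0, 1` also to some `v' (h_i(z) n m) u'` with
  `n ∈ U_J⁻` (or to some `v' (m n h_i(z)) u'` with `n ∈ U_J`).
-/

set_option autoImplicit false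
set_option linter.unusedSectionVars false

namespace Cfsg.Agent.H240.TW

open CoxeterSystem Cfsg.Agent.ChevalleyStructure.CoxeterGeom Cfsg.Agent.Tits.Roots Cfsg.Agent.Tits.Core
  Cfsg.Agent.Tits.RootComb Cfsg.Agent.Tits.Exchange Cfsg.Agent.Nodes.Comb Cfsg.Agent.Nodes.Reps
  Cfsg.Agent.Nodes.BNOf Cfsg.Agent.Nodes.StabComb
  Cfsg.Agent.Nodes.RGDLib Cfsg.Agent.Nodes.Bruhat Cfsg.Agent.Nodes.OppDec Cfsg.Agent.Nodes.LeviDec
  Cfsg.Agent.OddHalf.NI.Mult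
  Cfsg.Agent.H162.GaussComb Cfsg.Agent.H162.GaussDec Cfsg.Agent.H162.GaussLevi Cfsg.Agent.H162.GaussSL
  Cfsg.Agent.H928.Ore.Frame
open Cfsg.Agent.FixBN.FieldRGD (uu vv dd ww)

variable {I W Y : Type*} [Fintype I] [DecidableEq I] [Group W] [Group Y] {M : CoxeterMatrix I}
  {cs : CoxeterSystem M W} {A : I → I → ℤ} {h : IsCartan M A} {p : ℕ} {T : Subgroup Y} {n : I → Y}
  {X : (I → ℤ) → Subgroup Y}

theorem eq_sr_of_PosJ {i : I} {x : I → ℤ} (hx : x ∈ PosJ cs h {i}) : x = sr i := by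
  by_contra hne
  obtain ⟨k, hk, h0⟩ := exists_coeff hx.1 hx.2.1 hne
  have h1 := hx.2.2 k hk
  omega

theorem UJ_single_le {i : I} : UJ cs h X {i} ≤ X (sr i) :=
  RGD.Sup_le fun x hx => by rw [eq_sr_of_PosJ hx]

theorem UNJ_single_le {i : I} : UNJ cs h X {i} ≤ X (-sr i) :=
  RGD.Sup_le fun x hx => by rw [← eq_sr_of_PosJ (x := -x) hx, neg_neg]

theorem sr_mem_NotJ {J : Set I} {i : I} (hi : i ∉ J) : sr i ∈ NotJ cs h J :=
  ⟨isRoot_sr cs h i, sr_nonneg i, i, hi, by simp [sr]⟩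

theorem X_le_VJ {J : Set I} {i : I} (hi : i ∉ J) : X (sr i) ≤ VJ cs h X J := RGD.le_Sup (sr_mem_NotJ hi)

theorem XN_le_VNJ {J : Set I} {i : I} (hi : i ∉ J) : X (-sr i) ≤ VNJ cs h X J := by
  refine RGD.le_Sup (S := NotNJ cs h J) ?_
  change - -sr i ∈ NotJ cs h J
  rw [neg_neg]
  exact sr_mem_NotJ hi

theorem PosJ_NotJ {J : Set I} {i : I} (hi : i ∉ J) {x : I → ℤ} (hx : x ∈ PosJ cs h J) : x ∈ NotJ cs h {i} := by
  have hne : x ≠ sr i := by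
    rintro rfl
    have h1 := hx.2.2 i hi
    simp [sr] at h1
  obtain ⟨k, hk, h0⟩ := exists_coeff hx.1 hx.2.1 hne
  exact ⟨hx.1, hx.2.1, k, hk, h0⟩

theorem UJ_le_VJ {J : Set I} {i : I} (hi : i ∉ J) : UJ cs h X J ≤ VJ cs h X {i} :=
  RGD.Sup_mono fun _ hx => PosJ_NotJ hi hx

theorem UNJ_le_VNJ {J : Set I} {i : I} (hi : i ∉ J) : UNJ cs h X J ≤ VNJ cs h X {i} :=
  RGD.Sup_mono fun _ hx => PosJ_NotJ hi hx

theorem sr_RootsJ (i : I) : sr i ∈ RootsJ cs h {i} :=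
  ⟨isRoot_sr cs h i, fun k hk => by
    rw [Set.mem_singleton_iff] at hk
    simp [sr, hk]⟩

theorem X_le_LJ_single (i : I) : X (sr i) ≤ LJ cs h T X {i} := X_le_LJ (sr_RootsJ i)

theorem XN_le_LJ_single (i : I) : X (-sr i) ≤ LJ cs h T X {i} := X_le_LJ (RootsJ.neg (sr_RootsJ i))

variable (R : RGD cs h p T n X)

include R

/-- **Kick from below.** -/
theorem kick_lo {J : Set I} {i : I} (hi : i ∉ J) {v0 m u a a₁ b b₁ t : Y} (hv0 : v0 ∈ VNJ cs h X {i})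
    (hm : m ∈ LJ cs h T X J) (hu : u ∈ VJ cs h X J) (ha : a ∈ X (sr i)) (ha₁ : a₁ ∈ X (sr i)) (hb₁ : b₁ ∈ X (-sr i))
    (ht : t ∈ T) (e : a * b = b₁ * t * a₁) :
    ∃ v ∈ VNJ cs h X J, ∃ k ∈ UNJ cs h X J, ∃ u' ∈ VJ cs h X J,
      a * ((b * v0) * m * u) * a⁻¹ = v * (t * k * m) * u' := by
  have h1 : a₁ * v0 * a₁⁻¹ ∈ VNJ cs h X {i} :=
    (Subgroup.mem_normalizer_iff.1 (LJ_le_normalizer_VNJ R {i} (X_le_LJ_single i ha₁)) v0).1 hv0
  obtain ⟨vP, hvP, k, hk, e1⟩ := exists_UNJ R (J := J) (VNJ_le_UN {i} h1)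
  have h2 : t * vP * t⁻¹ ∈ VNJ cs h X J :=
    (Subgroup.mem_normalizer_iff.1 (LJ_le_normalizer_VNJ R J (T_le_LJ ht)) vP).1 hvP
  have h3 : m⁻¹ * a₁ * m ∈ VJ cs h X J := by
    have h4 := (Subgroup.mem_normalizer_iff.1 (LJ_le_normalizer_VJ R J (inv_mem hm)) a₁).1 (X_le_VJ hi ha₁)
    rwa [inv_inv] at h4
  refine ⟨b₁ * (t * vP * t⁻¹), mul_mem (XN_le_VNJ hi hb₁) h2, k, hk, m⁻¹ * a₁ * m * u * a⁻¹,
    mul_mem (mul_mem h3 hu) (inv_mem (X_le_VJ hi ha)), ?_⟩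
  have e2 : v0 = a₁⁻¹ * (vP * k) * a₁ := by rw [← e1]; group
  calc a * (b * v0 * m * u) * a⁻¹ = (a * b) * v0 * m * u * a⁻¹ := by group
    _ = _ := by rw [e, e2]; group

/-- **Kick from above.** -/
theorem kick_up {J : Set I} {i : I} (hi : i ∉ J) {v m u0 a a₁ b b₁ t : Y} (hv : v ∈ VNJ cs h X J)
    (hm : m ∈ LJ cs h T X J) (hu0 : u0 ∈ VJ cs h X {i}) (hb : b ∈ X (-sr i)) (ha₁ : a₁ ∈ X (sr i)) (hb₁ : b₁ ∈ X (-sr i))
    (ht : t ∈ T) (e : a * b⁻¹ = b₁ * t * a₁) :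
    ∃ v' ∈ VNJ cs h X J, ∃ k ∈ UJ cs h X J, ∃ u' ∈ VJ cs h X J,
      b * (v * m * (u0 * a)) * b⁻¹ = v' * (m * k * t) * u' := by
  have h1 : b₁⁻¹ * u0 * b₁ ∈ VJ cs h X {i} := by
    have h4 := (Subgroup.mem_normalizer_iff.1 (LJ_le_normalizer_VJ R {i} (inv_mem (XN_le_LJ_single i hb₁))) u0).1 hu0
    rwa [inv_inv] at h4
  obtain ⟨k, hk, uP, huP, e1⟩ := (mem_U_iff R (J := J)).1 (VJ_le_U {i} h1)
  have h2 : t⁻¹ * uP * t ∈ VJ cs h X J := by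
    have h4 := (Subgroup.mem_normalizer_iff.1 (LJ_le_normalizer_VJ R J (T_le_LJ (inv_mem ht))) uP).1 huP
    rwa [inv_inv] at h4
  have h3 : m * b₁ * m⁻¹ ∈ VNJ cs h X J :=
    (Subgroup.mem_normalizer_iff.1 (LJ_le_normalizer_VNJ R J hm) b₁).1 (XN_le_VNJ hi hb₁)
  refine ⟨b * v * (m * b₁ * m⁻¹), mul_mem (mul_mem (XN_le_VNJ hi hb) hv) h3, k, hk, t⁻¹ * uP * t * a₁,
    mul_mem h2 (X_le_VJ hi ha₁), ?_⟩
  have e2 : u0 = b₁ * (k * uP) * b₁⁻¹ := by rw [← e1]; group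
  calc b * (v * m * (u0 * a)) * b⁻¹ = b * v * m * u0 * (a * b⁻¹) := by group
    _ = _ := by rw [e, e2]; group

variable {F : I → Type*} [∀ i, Field (F i)] {s : ∀ i, Matrix.SpecialLinearGroup (Fin 2) (F i) →* Y}

/-- one of the two simple coordinates is nontrivial -/
theorem gauss_ne [Finite W] (hG : G1 cs h X = ⊤) (C : Coord X F s)
    (hconn : ∀ J : Set I, J.Nonempty → J ≠ Set.univ → ∃ a ∈ J, ∃ b, b ∉ J ∧ M a b ≠ 2) {g : Y}
    (hg : g ∉ (RGD.B cs h T X).normalCore) {κ : Y} (hκ : κ ∈ T) {i : I} {a : Y} (ha : a ∈ X (sr i))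
    (hne : κ⁻¹ * a * κ ≠ a) :
    ∃ x : Y, ∃ w ∈ VNJ cs h X {i}, ∃ β ∈ X (-sr i), ∃ α ∈ X (sr i), ∃ w' ∈ VJ cs h X {i},
      x * g * x⁻¹ = (w * β) * κ * (α * w') ∧ (β ≠ 1 ∨ α ≠ 1) := by
  obtain ⟨x, v, hv, u, hu, e⟩ := Cfsg.Agent.H122.SX.gauss_h R hG C hconn hg hκ
  obtain ⟨w, hw, β, hβ, rfl⟩ := exists_UNJ R (J := {i}) hv
  obtain ⟨α, hα, w', hw', rfl⟩ := (mem_U_iff R (J := {i})).1 hu
  by_cases hβ1 : β ≠ 1
  · exact ⟨x, w, hw, β, UNJ_single_le hβ, α, UJ_single_le hα, w', hw', e, Or.inl hβ1⟩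
  by_cases hα1 : α ≠ 1
  · exact ⟨x, w, hw, β, UNJ_single_le hβ, α, UJ_single_le hα, w', hw', e, Or.inr hα1⟩
  push Not at hβ1 hα1
  subst hβ1 hα1
  have hcon : κ⁻¹ * a * κ ∈ X (sr i) := by
    have h1 := R.T_le_normalizer (S := {sr i}) (fun _ hx => by
      rw [Set.mem_singleton_iff] at hx
      rw [hx]
      exact isRoot_sr cs h i) (inv_mem hκ)
    have h2 : RGD.Sup X {sr i} = X (sr i) := by
      refine le_antisymm (RGD.Sup_le fun x hx => ?_) (RGD.le_Sup rfl)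
      rw [Set.mem_singleton_iff] at hx
      rw [hx]
    rw [h2] at h1
    have h3 := (Subgroup.mem_normalizer_iff.1 h1 a).1 ha
    rwa [inv_inv] at h3
  refine ⟨a * x, a * w * a⁻¹, (Subgroup.mem_normalizer_iff.1 (LJ_le_normalizer_VNJ R {i} (X_le_LJ_single i ha)) w).1 hw,
    1, one_mem _, κ⁻¹ * a * κ * a⁻¹, mul_mem hcon (inv_mem ha), a * w' * a⁻¹,
    (Subgroup.mem_normalizer_iff.1 (LJ_le_normalizer_VJ R {i} (X_le_LJ_single i ha)) w').1 hw', ?_, Or.inr ?_⟩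
  · calc a * x * g * (a * x)⁻¹ = a * (x * g * x⁻¹) * a⁻¹ := by group
      _ = _ := by rw [e]; group
  · intro h1
    exact hne (mul_inv_eq_one.1 h1)

omit R in
theorem sl_kick {F : Type*} [Field F] {σ c z : F} (hz : z ≠ 0) (e : 1 + σ * c = z) :
    uu σ * vv c = vv (c / z) * dd z hz * uu (σ / z) := by
  apply Subtype.ext
  change !![1, σ; 0, 1] * !![1, 0; c, 1] = !![1, 0; c / z, 1] * !![z, 0; 0, z⁻¹] * !![1, σ / z; 0, 1]
  rw [Matrix.mul_fin_two, Matrix.mul_fin_two, Matrix.mul_fin_two]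
  have h1 : z * (σ / z) = σ := by field_simp
  have h2 : c / z * z = c := by field_simp
  have h3 : c * (σ / z) + z⁻¹ = 1 := by
    field_simp
    linear_combination e
  ext i j
  fin_cases i <;> fin_cases j
  · simp [e]
  · simp [h1]
  · simp [h2]
  · simp [h2, h3]

/-- **The kick.** -/
theorem gauss_kick [Finite W] (hG : G1 cs h X = ⊤) (C : Coord X F s)
    (hconn : ∀ J : Set I, J.Nonempty → J ≠ Set.univ → ∃ a ∈ J, ∃ b, b ∉ J ∧ M a b ≠ 2) {g : Y}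
    (hg : g ∉ (RGD.B cs h T X).normalCore) {κ : Y} (hκ : κ ∈ T) {i : I} {a : Y} (ha : a ∈ X (sr i))
    (hne : κ⁻¹ * a * κ ≠ a) {J : Set I} (hi : i ∉ J) (hT : ∀ z (hz : z ≠ 0), s i (dd z hz) ∈ T) :
    ∃ L ∈ UNJ cs h X J, ∃ U ∈ UJ cs h X J,
      (∃ x, ∃ v ∈ VNJ cs h X J, ∃ u ∈ VJ cs h X J, x * g * x⁻¹ = v * (L * κ * U) * u) ∧
      ((∀ z (hz : z ≠ 0), z ≠ 1 → ∃ x, ∃ v ∈ VNJ cs h X J, ∃ k ∈ UNJ cs h X J, ∃ u ∈ VJ cs h X J,
          x * g * x⁻¹ = v * (s i (dd z hz) * k * (L * κ * U)) * u) ∨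
        ∀ z (hz : z ≠ 0), z ≠ 1 → ∃ x, ∃ v ∈ VNJ cs h X J, ∃ k ∈ UJ cs h X J, ∃ u ∈ VJ cs h X J,
          x * g * x⁻¹ = v * ((L * κ * U) * k * s i (dd z hz)) * u) := by
  obtain ⟨x, w, hw, β, hβ, α, hα, w', hw', e, hor⟩ := gauss_ne R hG C hconn hg hκ ha hne
  have hv : w * β ∈ UN cs h X := mul_mem (VNJ_le_UN {i} hw) (RGD.le_Sup (S := {x | IsRoot cs h x ∧ x ≤ 0})
    ⟨(isRoot_sr cs h i).neg, neg_nonpos.2 (sr_nonneg i)⟩ hβ)
  have hu : α * w' ∈ RGD.Sup X (RGD.Pos cs h) := mul_mem (RGD.le_Sup (S := RGD.Pos cs h)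
    ⟨isRoot_sr cs h i, sr_nonneg i⟩ hα) (VJ_le_U {i} hw')
  obtain ⟨vP, hvP, L, hL, e1⟩ := exists_UNJ R (J := J) hv
  obtain ⟨U, hU, uP, huP, e2⟩ := (mem_U_iff R (J := J)).1 hu
  have hLL : L ∈ LJ cs h T X J := (RGD.Sup_le fun z hz => by
    have := X_le_LJ (T := T) (X := X) (RootsJ.neg (PosJ_subset J hz))
    rwa [neg_neg] at this : UNJ cs h X J ≤ LJ cs h T X J) hL
  have hUL : U ∈ LJ cs h T X J := (RGD.Sup_le fun z hz => X_le_LJ (PosJ_subset J hz) : UJ cs h X J ≤ LJ cs h T X J) hU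
  have hm : L * κ * U ∈ LJ cs h T X J := mul_mem (mul_mem hLL (T_le_LJ hκ)) hUL
  have e3 : x * g * x⁻¹ = vP * (L * κ * U) * uP := by
    rw [e, e1, e2]
    group
  refine ⟨L, hL, U, hU, ⟨x, vP, hvP, uP, huP, e3⟩, ?_⟩
  rcases hor with h1 | h1
  · left
    intro z hz hz1
    obtain ⟨c, hc⟩ : ∃ c, s i (vv c) = β := by
      have h2 : β ∈ (X (-sr i) : Set Y) := hβ
      rw [C.lo i] at h2
      exact h2
    have hc0 : c ≠ 0 := by
      rintro rfl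
      refine h1 ?_
      rw [← hc]
      have h3 : (vv (0 : F i)) = 1 := by
        apply Subtype.ext
        change !![1, 0; 0, 1] = (1 : Matrix (Fin 2) (Fin 2) (F i))
        exact Matrix.one_fin_two.symm
      rw [h3, map_one]
    -- `vP = β v0`
    have hw1 : β⁻¹ * w * β ∈ VNJ cs h X {i} := by
      have h4 := (Subgroup.mem_normalizer_iff.1 (LJ_le_normalizer_VNJ R {i} (inv_mem (XN_le_LJ_single i hβ))) w).1 hw
      rwa [inv_inv] at h4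
    have hv0 : β⁻¹ * w * β * L⁻¹ ∈ VNJ cs h X {i} := mul_mem hw1 (inv_mem (UNJ_le_VNJ hi hL))
    have e4 : vP = β * (β⁻¹ * w * β * L⁻¹) := by
      calc vP = (vP * L) * L⁻¹ := by group
        _ = _ := by rw [← e1]; group
    have hs := sl_kick (σ := (z - 1) / c) (c := c) hz (by field_simp; ring)
    have hs' := congrArg (s i) hs
    simp only [map_mul] at hs'
    rw [hc] at hs'
    obtain ⟨v, hv, k, hk, u', hu', e5⟩ := kick_lo R hi hv0 hm huP (a := s i (uu ((z - 1) / c)))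
      (a₁ := s i (uu ((z - 1) / c / z))) (b := β) (b₁ := s i (vv (c / z))) (t := s i (dd z hz))
      (by
        have h2 : s i (uu ((z - 1) / c)) ∈ (X (sr i) : Set Y) := by rw [C.up i]; exact ⟨_, rfl⟩
        exact h2)
      (by
        have h2 : s i (uu ((z - 1) / c / z)) ∈ (X (sr i) : Set Y) := by rw [C.up i]; exact ⟨_, rfl⟩
        exact h2)
      (by
        have h2 : s i (vv (c / z)) ∈ (X (-sr i) : Set Y) := by rw [C.lo i]; exact ⟨_, rfl⟩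
        exact h2) (hT z hz) hs'
    refine ⟨s i (uu ((z - 1) / c)) * x, v, hv, k, hk, u', hu', ?_⟩
    rw [← e5, ← e4, ← e3]
    group
  · right
    intro z hz hz1
    obtain ⟨d, hd⟩ : ∃ d, s i (uu d) = α := by
      have h2 : α ∈ (X (sr i) : Set Y) := hα
      rw [C.up i] at h2
      exact h2
    have hd0 : d ≠ 0 := by
      rintro rfl
      refine h1 ?_
      rw [← hd]
      have h3 : (uu (0 : F i)) = 1 := by
        apply Subtype.ext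
        change !![1, 0; 0, 1] = (1 : Matrix (Fin 2) (Fin 2) (F i))
        exact Matrix.one_fin_two.symm
      rw [h3, map_one]
    have hw1 : α * w' * α⁻¹ ∈ VJ cs h X {i} :=
      (Subgroup.mem_normalizer_iff.1 (LJ_le_normalizer_VJ R {i} (X_le_LJ_single i hα)) w').1 hw'
    have hu0 : U⁻¹ * (α * w' * α⁻¹) ∈ VJ cs h X {i} := mul_mem (inv_mem (UJ_le_VJ hi hU)) hw1
    have e4 : uP = U⁻¹ * (α * w' * α⁻¹) * α := by
      calc uP = U⁻¹ * (U * uP) := by group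
        _ = _ := by rw [← e2]; group
    have hs := sl_kick (σ := d) (c := -((1 - z) / d)) hz (by field_simp; ring)
    have hs' := congrArg (s i) hs
    simp only [map_mul] at hs'
    have hvn : s i (vv (-((1 - z) / d))) = (s i (vv ((1 - z) / d)))⁻¹ := by
      rw [← map_inv]
      congr 1
      rw [eq_inv_iff_mul_eq_one]
      apply Subtype.ext
      change !![1, 0; -((1 - z) / d), 1] * !![1, 0; (1 - z) / d, 1] = (1 : Matrix (Fin 2) (Fin 2) (F i))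
      rw [Matrix.mul_fin_two, Matrix.one_fin_two]
      simp
    rw [hd, hvn] at hs'
    obtain ⟨v', hv', k, hk, u', hu', e5⟩ := kick_up R hi hvP hm hu0 (a := α)
      (a₁ := s i (uu (d / z))) (b := s i (vv ((1 - z) / d))) (b₁ := s i (vv (-((1 - z) / d) / z))) (t := s i (dd z hz))
      (by
        have h2 : s i (vv ((1 - z) / d)) ∈ (X (-sr i) : Set Y) := by rw [C.lo i]; exact ⟨_, rfl⟩
        exact h2)
      (by
        have h2 : s i (uu (d / z)) ∈ (X (sr i) : Set Y) := by rw [C.up i]; exact ⟨_, rfl⟩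
        exact h2)
      (by
        have h2 : s i (vv (-((1 - z) / d) / z)) ∈ (X (-sr i) : Set Y) := by rw [C.lo i]; exact ⟨_, rfl⟩
        exact h2) (hT z hz) hs'
    refine ⟨s i (vv ((1 - z) / d)) * x, v', hv', k, hk, u', hu', ?_⟩
    rw [← e5, ← e4, ← e3]
    group

end Cfsg.Agent.H240.TW
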